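import Mathlib
import Groth.Prelude.Def_ProCons

set_option autoImplicit false

namespace Groth.Agent.Lib.Helper19.LocClosedPieces

open Topology Set

variable {X : Type*} [TopologicalSpace X]

/-- `s` is a union of locally closed subsets -/
def IsUnionLC (s : Set X) : Prop := ∀ x ∈ s, ∃ Z : Set X, IsLocallyClosed Z ∧ x ∈ Z ∧ Z ⊆ s

theorem IsUnionLC.inter {s t : Set X} (hs : IsUnionLC s) (ht : IsUnionLC t) : IsUnionLC (s ∩ t) := by
  intro x hx
  obtain ⟨Z, hZ, hxZ, hZs⟩ := hs x hx.1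
  obtain ⟨Z', hZ', hxZ', hZt⟩ := ht x hx.2
  exact ⟨Z ∩ Z', hZ.inter hZ', ⟨hxZ, hxZ'⟩, Set.inter_subset_inter hZs hZt⟩

theorem IsUnionLC.preimage {Y : Type*} [TopologicalSpace Y] {f : X → Y} (hf : Continuous f)
    {s : Set Y} (hs : IsUnionLC s) : IsUnionLC (f ⁻¹' s) := by
  intro x hx
  obtain ⟨Z, hZ, hxZ, hZs⟩ := hs (f x) hx
  exact ⟨f ⁻¹' Z, hZ.preimage hf, hxZ, Set.preimage_mono hZs⟩

theorem _root_.IsLocallyClosed.isUnionLC {s : Set X} (hs : IsLocallyClosed s) : IsUnionLC s :=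
  fun _ hx => ⟨s, hs, hx, subset_rfl⟩

theorem isUnionLC_of_isConstructible {s : Set X} (hs : IsConstructible s) :
    IsUnionLC s ∧ IsUnionLC sᶜ := by
  induction hs using IsConstructible.empty_union_induction with
  | open_retrocompact U hU _ =>
    exact ⟨hU.isLocallyClosed.isUnionLC, hU.isClosed_compl.isLocallyClosed.isUnionLC⟩
  | union s _ t _ hs ht =>
    refine ⟨?_, ?_⟩
    · rintro x (hx | hx)
      · obtain ⟨Z, hZ, hxZ, hZs⟩ := hs.1 x hx
        exact ⟨Z, hZ, hxZ, hZs.trans Set.subset_union_left⟩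
      · obtain ⟨Z, hZ, hxZ, hZs⟩ := ht.1 x hx
        exact ⟨Z, hZ, hxZ, hZs.trans Set.subset_union_right⟩
    · rw [Set.compl_union]
      exact hs.2.inter ht.2
  | compl s _ hs =>
    refine ⟨hs.2, ?_⟩
    rw [compl_compl]
    exact hs.1

theorem isUnionLC_of_isOpen_of_subtype {U : Set X} (hU : IsOpen U) {s : Set X}
    (h : IsUnionLC (Subtype.val ⁻¹' s : Set U)) : IsUnionLC (s ∩ U) := by
  intro x hx
  obtain ⟨Z, hZ, hxZ, hZs⟩ := h ⟨x, hx.2⟩ hx.1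
  refine ⟨Subtype.val '' Z, ?_, ⟨_, hxZ, rfl⟩, ?_⟩
  · exact hZ.image IsInducing.subtypeVal (by simpa using hU.isLocallyClosed)
  · rintro _ ⟨y, hy, rfl⟩
    exact ⟨hZs hy, y.2⟩

theorem isUnionLC_of_isLocallyConstructible {s : Set X} (hs : IsLocallyConstructible s) :
    IsUnionLC s := by
  intro x hx
  obtain ⟨U, hxU, hU, hc⟩ := hs x
  have := isUnionLC_of_isOpen_of_subtype hU (isUnionLC_of_isConstructible hc).1
  obtain ⟨Z, hZ, hxZ, hZs⟩ := this x ⟨hx, mem_of_mem_nhds hxU⟩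
  exact ⟨Z, hZ, hxZ, hZs.trans Set.inter_subset_left⟩

theorem isUnionLC_of_isIndConstructible {s : Set X} (hs : ProCons.IsIndConstructible s) :
    IsUnionLC s := by
  intro x hx
  obtain ⟨U, hU, hxU, S, hS, hE⟩ := hs x
  have hx' : (⟨x, hxU⟩ : U) ∈ (Subtype.val ⁻¹' s : Set U) := hx
  rw [hE] at hx'
  obtain ⟨T, hT, hxT⟩ := hx'
  have h1 : IsUnionLC (T : Set U) := isUnionLC_of_isLocallyConstructible (hS T hT)
  obtain ⟨Z, hZ, hxZ, hZT⟩ := h1 ⟨x, hxU⟩ hxT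
  refine ⟨Subtype.val '' Z, ?_, ⟨_, hxZ, rfl⟩, ?_⟩
  · exact hZ.image IsInducing.subtypeVal (by simpa using hU.isLocallyClosed)
  · rintro _ ⟨y, hy, rfl⟩
    have : y ∈ (Subtype.val ⁻¹' s : Set U) := by
      rw [hE]; exact ⟨T, hT, hZT hy⟩
    exact this

/-- in a Jacobson space a nonempty union of locally closed sets contains a closed point -/
theorem IsUnionLC.exists_isClosed_singleton [JacobsonSpace X] {s : Set X} (hs : IsUnionLC s)
    (hne : s.Nonempty) : ∃ x ∈ s, IsClosed ({x} : Set X) := by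
  obtain ⟨x, hx⟩ := hne
  obtain ⟨Z, hZ, hxZ, hZs⟩ := hs x hx
  obtain ⟨y, hyZ, hy⟩ := nonempty_inter_closedPoints ⟨x, hxZ⟩ hZ
  exact ⟨y, hZs hyZ, hy⟩

end Groth.Agent.Lib.Helper19.LocClosedPieces
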